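import Cfsg.Agent.Lib.CosetEnum.ONJone0.TabF_Data0
import Cfsg.Agent.Lib.CosetEnum.ONJone0.TabC_Data0
import Cfsg.Agent.Lib.CosetEnum.ONJone0.TabZ_Data0
import Cfsg.Agent.Lib.CosetEnum.ONJone0.TabP_Data0

/-! Generated certificate. -/

set_option autoImplicit false
set_option maxRecDepth 20000

namespace Cfsg.Lib.CosetEnum.ONJone0

/-- Table. -/
def tabF : Tab :=
  tabF_0

/-- Table. -/
def tabC : Tab :=
  tabC_0

/-- Table. -/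
def tabZ : Tab :=
  tabZ_0

/-- Table. -/
def tabP : Tab :=
  tabP_0

/-- The shifts in use. -/
def relWords : List (List Nat) :=
  [[0, 0],
    [1, 1],
    [2, 2],
    [3, 3],
    [1, 0, 1, 0, 1, 0, 1, 0, 1, 0],
    [2, 0, 2, 0, 2, 0, 2, 0, 2, 0],
    [3, 0, 3, 0, 3, 0],
    [2, 1, 2, 1],
    [3, 1, 3, 1, 3, 1, 3, 1, 3, 1],
    [3, 2, 3, 2, 3, 2],
    [2, 1, 0, 2, 1, 0, 2, 1, 0, 2, 1, 0, 2, 1, 0],
    [2, 3, 2, 0, 2, 0, 1, 0, 2, 3, 2, 0, 2, 0, 1, 0],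
    [1, 2, 1, 2],
    [0, 2, 0, 2, 0, 2, 0, 2, 0, 2],
    [0, 1, 0, 1, 0, 1, 0, 1, 0, 1]]

/-- Subgroup words. -/
def subWords : List (List Nat) :=
  [[0],
    [1],
    [2]]

/-- The certificate. -/
def step : StepCert :=
  ⟨relWords, subWords, [0, 1, 2, 3], tabF, tabC, tabZ, tabP, 773, 582, 266, 4⟩

end Cfsg.Lib.CosetEnum.ONJone0
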